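import Groth.Agent.WDiv.K654.PolyMain
import Groth.Agent.WDiv.K654.PolyCrit
import Groth.Agent.Divis.IdealComap
import Groth.Agent.Fga.RelCart
import Groth.Agent.Fga.UnitRestrict
import Groth.Agent.Fdesc.StructMod
import Groth.Agent.CohqA.AffineBaseChange
import Groth.Prelude.Def_ChowK

/-!
# Pull-back of the structure sheaf of the closure of a point along an affine space

* `mem_ptIdeal_iff`, `ptIdeal_ideal`: the ideal of the closure of a point on affine opens.
* `comap_ptIdeal`: `q⁻¹(closure x) = closure ζ` as schemes, `q` locally an affine space, `ζ` the generic point of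
  the fibre over `x`.
* `nonempty_pullback_closure`: `q^* O_(closure x) ≅ O_(closure ζ)`.
-/

set_option autoImplicit false
universe u

open CategoryTheory AlgebraicGeometry TopologicalSpace CategoryTheory.Limits K654.PolyMap
  K654.OrdAff

namespace K183.PullClos

open Groth.Agent

variable {X : Scheme.{u}}

theorem mem_ideal_iff (x : X) (U : X.affineOpens) (a : Γ(X, U.1)) :
    a ∈ (IntMult.ptIdeal x).ideal U ↔ ∀ y ∈ U.1, x ⤳ y → y ∉ X.basicOpen a := by
  unfold IntMult.ptIdeal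
  rw [Scheme.IdealSheafData.vanishingIdeal_ideal, PrimeSpectrum.mem_vanishingIdeal]
  have key : ∀ p : Spec Γ(X, U.1), a ∈ p.asIdeal ↔ U.2.fromSpec p ∉ X.basicOpen a := by
    intro p
    have h1 : U.2.fromSpec p ∈ U.1 := by
      have h2 : U.2.fromSpec p ∈ Set.range U.2.fromSpec := ⟨p, rfl⟩
      rw [U.2.range_fromSpec] at h2
      exact h2
    have h3 : U.2.primeIdealOf ⟨U.2.fromSpec p, h1⟩ = p := by
      apply U.2.fromSpec.isOpenEmbedding.injective
      rw [U.2.fromSpec_primeIdealOf]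
    rw [← mem_pr_iff U.2 _ h1, pr, h3]
  constructor
  · intro h y hy hxy
    have h1 := h (U.2.primeIdealOf ⟨y, hy⟩) (by
      rw [Set.mem_preimage, U.2.fromSpec_primeIdealOf]
      exact hxy.mem_closure)
    rw [key, U.2.fromSpec_primeIdealOf] at h1
    exact h1
  · intro h p hp
    rw [key]
    refine h _ ?_ (specializes_iff_mem_closure.mpr hp)
    have h2 : U.2.fromSpec p ∈ Set.range U.2.fromSpec := ⟨p, rfl⟩
    rw [U.2.range_fromSpec] at h2
    exact h2

theorem ideal_of_mem (x : X) (U : X.affineOpens) (hx : x ∈ U.1) :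
    (IntMult.ptIdeal x).ideal U = pr U.2 x hx := by
  ext a
  rw [mem_ideal_iff, mem_pr_iff]
  constructor
  · intro h
    exact h x hx specializes_rfl
  · intro h y _ hxy hy
    exact h (hxy.mem_open (X.basicOpen a).isOpen hy)

theorem ideal_of_notMem (x : X) (U : X.affineOpens) (hx : x ∉ U.1) :
    (IntMult.ptIdeal x).ideal U = ⊤ := by
  rw [Ideal.eq_top_iff_one, mem_ideal_iff]
  intro y hy hxy
  exact absurd (hxy.mem_open U.1.isOpen hy) hx

section

variable {σ : Type u} {Y Y₁ : Scheme.{u}} {q : Y₁ ⟶ Y} (hq : IsPoly σ q) (x : Y) (ζ : Y₁)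
  (hζ : q ζ = x) (hgen : ∀ z : Y₁, q z = x → ζ ⤳ z)

include hq hζ hgen

/-- The prime of the generic point of the fibre is the extension of the prime of the point. -/
theorem pr_eq_map (U : Y.affineOpens) (hx : x ∈ U.1) (hζU : ζ ∈ q ⁻¹ᵁ U.1) :
    pr (hq.affine U.1 U.2) ζ hζU = (pr U.2 x hx).map (q.app U.1).hom := by
  have hP : ((pr U.2 x hx).map (q.app U.1).hom).IsPrime :=
    (hq.primeExt U.1 U.2).isPrime_map _ inferInstance
  obtain ⟨z, hz, hzP⟩ := exists_pr_eq (hq.affine U.1 U.2) ((pr U.2 x hx).map (q.app U.1).hom)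
  have h1 := pr_image q U.2 (hq.affine U.1 U.2) z hz
  rw [hzP, (hq.primeExt U.1 U.2).comap_map _ inferInstance] at h1
  have h2 : q z = x := pr_injective U.2 _ _ hz hx h1
  have h3 := hgen z h2
  apply le_antisymm
  · intro a ha
    rw [← hzP, mem_pr_iff]
    intro h4
    rw [mem_pr_iff] at ha
    exact ha (h3.mem_open (Y₁.basicOpen a).isOpen h4)
  · rw [Ideal.map_le_iff_le_comap]
    have h4 := pr_image q U.2 (hq.affine U.1 U.2) ζ hζU
    rw [← h4]
    subst hζ
    exact le_rfl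

theorem comap_ptIdeal : (IntMult.ptIdeal x).comap q = IntMult.ptIdeal ζ := by
  have hcov : ⨆ U : Y.affineOpens, (⟨q ⁻¹ᵁ U.1, hq.affine U.1 U.2⟩ : Y₁.affineOpens).1 = ⊤ := by
    rw [eq_top_iff]
    intro y _
    obtain ⟨_, ⟨V, hV, rfl⟩, hxV, -⟩ :=
      Y.isBasis_affineOpens.exists_subset_of_mem_open (Set.mem_univ (q y)) isOpen_univ
    exact Opens.mem_iSup.mpr ⟨⟨V, hV⟩, hxV⟩
  refine Scheme.IdealSheafData.ext_of_iSup_eq_top
    (fun U : Y.affineOpens => (⟨q ⁻¹ᵁ U.1, hq.affine U.1 U.2⟩ : Y₁.affineOpens)) hcov fun U => ?_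
  have h1 := Divis.IdealComap.ideal_comap (IntMult.ptIdeal x) q U
    ⟨q ⁻¹ᵁ U.1, hq.affine U.1 U.2⟩ le_rfl
  rw [h1]
  have h2 : q.appLE U.1 (q ⁻¹ᵁ U.1) le_rfl = q.app U.1 := q.app_eq_appLE.symm
  change Ideal.map (q.appLE U.1 (q ⁻¹ᵁ U.1) le_rfl).hom _ = _
  rw [h2]
  by_cases hx : x ∈ U.1
  · have hζU : ζ ∈ q ⁻¹ᵁ U.1 := by
      change q ζ ∈ U.1
      rw [hζ]
      exact hx
    rw [ideal_of_mem x U hx, ideal_of_mem ζ ⟨q ⁻¹ᵁ U.1, hq.affine U.1 U.2⟩ hζU,
      pr_eq_map hq x ζ hζ hgen U hx hζU]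
  · have hζU : ζ ∉ q ⁻¹ᵁ U.1 := by
      intro h
      apply hx
      rw [← hζ]
      exact h
    rw [ideal_of_notMem x U hx, ideal_of_notMem ζ ⟨q ⁻¹ᵁ U.1, hq.affine U.1 U.2⟩ hζU,
      Ideal.map_top]

/-- Pull-back of the structure sheaf of the closure of a point. -/
theorem nonempty_iso :
    Nonempty ((Scheme.Modules.pullback q).obj (Cyc.closureStructureSheaf x) ≅
      Cyc.closureStructureSheaf ζ) := by
  unfold Cyc.closureStructureSheaf
  rw [← comap_ptIdeal hq x ζ hζ hgen]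
  have : (Coh.structureModule (IntMult.ptIdeal x).subscheme).IsQuasicoherent :=
    Fdesc.StructMod.isQCoh_structureModule _
  obtain ⟨e⟩ := CohqA.AffineBaseChange.nonempty_iso
    (Fga.RelCart.isPullback_comap (IntMult.ptIdeal x) q).flip
    (Coh.structureModule (IntMult.ptIdeal x).subscheme)
  exact ⟨e ≪≫ (Coh.push _).mapIso (Fga.UnitRestrict.pullbackUnitIso _)⟩

end

/-- D. Pull-back of the structure sheaf of the closure of a point. -/
theorem nonempty_pullback_closure {σ : Type u} [Finite σ] {Y Y₁ : Scheme.{u}}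
    [AlgebraicGeometry.IsNoetherian Y] [AlgebraicGeometry.IsNoetherian Y₁] {q : Y₁ ⟶ Y}
    (hq : IsPoly σ q) (x : Y) (ζ : Y₁) (hζ : q ζ = x) (hgen : ∀ z : Y₁, q z = x → ζ ⤳ z) :
    Nonempty ((Scheme.Modules.pullback q).obj (Cyc.closureStructureSheaf x) ≅
      Cyc.closureStructureSheaf ζ) :=
  nonempty_iso hq x ζ hζ hgen

end K183.PullClos
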